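import Mathlib
import Cfsg.Agent.Lib.helper3.S496Chk

/-!
# Project S983 (S0983): certificate format.  Checker = `helper3.S496Chk` (clauses cl1-cl9), reused as is.
-/

set_option autoImplicit false

namespace Cfsg.Agent.Lib.helper3.S983

open Cfsg.Agent.Lib.helper3.S496

/-- the orders which survive the sieve: the four orders of the statement and the ones with their own row. -/
def specialOrders : List ℕ := [3696, 3780, 3960, 4032, 4080, 4160, 4200, 4212, 4320, 4400, 4536, 4620, 4680, 4800, 4896, 4900, 4928, 4960, 5040, 5148, 5200, 5292, 5376, 5400, 5460, 5472, 5600, 5616, 5760, 5852, 5880, 5940, 6048, 6072, 6160]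

def certOk (c : ℕ × ℕ × ℕ × ℕ × ℕ × ℕ) : Bool :=
  match c with
  | (n, tag, a, b, e, f) =>
    (tag == 0 && specialOrders.contains n) ||
    (tag == 1 && n % 4 == 2) ||
    (tag == 2 && isPrimeB a && isPrimeB b && n == a ^ e * b ^ f) ||
    (tag == 3 && isPrimeB a && killedBy n a b e)

end Cfsg.Agent.Lib.helper3.S983
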