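import Mathlib
import Cfsg.Agent.Lib.helper3.S983.Tbl0
import Cfsg.Agent.Lib.helper3.S983.Tbl1
import Cfsg.Agent.Lib.helper3.S983.Tbl2
import Cfsg.Agent.Lib.helper3.S983.Tbl3
import Cfsg.Agent.Lib.helper3.S983.Tbl4
import Cfsg.Agent.Lib.helper3.S983.Tbl5
import Cfsg.Agent.Lib.helper3.S496Main
import Cfsg.Agent.S0976
import Cfsg.Agent.S0977
import Cfsg.Agent.S0979
import Cfsg.Agent.S0980
import Cfsg.Agent.Lib.Helper1.S983ROW3780
import Cfsg.Agent.Lib.Helper1.S983ROW4620
import Cfsg.Agent.Lib.Helper10.S983N5400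
import Cfsg.Agent.Lib.Helper11.S983E12h11
import Cfsg.Agent.Lib.Helper11.S983N4800
import Cfsg.Agent.Lib.Helper16.S983N5460
import Cfsg.Agent.Lib.Helper18.S983N4536
import Cfsg.Agent.Lib.Helper18.S983N5200
import Cfsg.Agent.Lib.Helper19.S983N4400
import Cfsg.Agent.Lib.Helper20.S983N4680
import Cfsg.Agent.Lib.Helper24.S983N5292
import Cfsg.Agent.Lib.Helper25.S983ROW5940
import Cfsg.Agent.Lib.Helper27.S983ROW5880
import Cfsg.Agent.Lib.Helper28.S983N4200
import Cfsg.Agent.Lib.helper15.S983ROW5148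
import Cfsg.Agent.Lib.helper6.S983N3960
import Cfsg.Agent.Lib.helper8.S983N3696V
import Cfsg.Agent.Lib.helper8.S983N5600
import Cfsg.Agent.Lib.helper8.S983N6160V
import Cfsg.Agent.S0978

set_option autoImplicit false

namespace Cfsg.Agent.Lib.helper3.S983

open Cfsg.Agent.Lib.helper3.S496

theorem cert_sound983 {G : Type*} [Group G] [Finite G] [IsSimpleGroup G] (hG : ¬ IsMulCommutative G)
    (c : ℕ × ℕ × ℕ × ℕ × ℕ × ℕ) (hc : certOk c = true) (hcard : Nat.card G = c.1) :
    c.1 ∈ specialOrders := by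
  obtain ⟨n, tag, a, b, e, f⟩ := c
  simp only at hcard ⊢
  unfold certOk at hc
  simp only [Bool.or_eq_true, Bool.and_eq_true, beq_iff_eq] at hc
  rcases hc with ((hc | hc) | hc) | hc
  · exact List.contains_iff_mem.mp hc.2
  · exfalso
    apply mod4_kill hG
    rw [hcard]
    exact hc.2
  · exfalso
    obtain ⟨⟨⟨-, ha⟩, hb⟩, hn⟩ := hc
    apply not_solvable hG
    exact Cfsg.Agent.Lib.helper2.burnside_pq a b e f (isPrimeB_sound a ha) (isPrimeB_sound b hb)
      (hcard.trans hn)
  · exfalso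
    obtain ⟨⟨-, ha⟩, hk⟩ := hc
    exact killedBy_sound hG n a b e (isPrimeB_sound a ha) hk hcard

theorem chunk_sound {G : Type*} [Group G] [Finite G] [IsSimpleGroup G] (hG : ¬ IsMulCommutative G)
    (L : List (ℕ × ℕ × ℕ × ℕ × ℕ × ℕ)) (hok : L.all certOk = true) (s len : ℕ)
    (hcov : L.map (fun c => c.1) = List.range' s len) (h1 : s ≤ Nat.card G)
    (h2 : Nat.card G < s + len) : Nat.card G ∈ specialOrders := by
  have hmem : Nat.card G ∈ List.range' s len := by
    rw [List.mem_range'_1]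
    exact ⟨h1, h2⟩
  rw [← hcov, List.mem_map] at hmem
  obtain ⟨c, hc, hcn⟩ := hmem
  have hok' : certOk c = true := List.all_eq_true.mp hok c hc
  have hall := cert_sound983 hG c hok' hcn.symm
  rwa [hcn] at hall

theorem mem_special {G : Type*} [Group G] [Finite G] [IsSimpleGroup G] (hG : ¬ IsMulCommutative G)
    (h1 : 3640 < Nat.card G) (h2 : Nat.card G ≤ 6232) : Nat.card G ∈ specialOrders := by
  rcases Nat.lt_or_ge (Nat.card G) 4073 with h | h
  · exact chunk_sound hG allCerts0 allCerts0_ok 3641 432 allCerts0_cover (by omega) (by omega)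
  rcases Nat.lt_or_ge (Nat.card G) 4505 with h' | h'
  · exact chunk_sound hG allCerts1 allCerts1_ok 4073 432 allCerts1_cover (by omega) (by omega)
  rcases Nat.lt_or_ge (Nat.card G) 4937 with h'' | h''
  · exact chunk_sound hG allCerts2 allCerts2_ok 4505 432 allCerts2_cover (by omega) (by omega)
  rcases Nat.lt_or_ge (Nat.card G) 5369 with h3 | h3
  · exact chunk_sound hG allCerts3 allCerts3_ok 4937 432 allCerts3_cover (by omega) (by omega)
  rcases Nat.lt_or_ge (Nat.card G) 5801 with h4 | h4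
  · exact chunk_sound hG allCerts4 allCerts4_ok 5369 432 allCerts4_cover (by omega) (by omega)
  · exact chunk_sound hG allCerts5 allCerts5_ok 5801 432 allCerts5_cover (by omega) (by omega)

theorem e1_false {G : Type*} [Group G] [Finite G] [IsSimpleGroup G] (hG : ¬ IsMulCommutative G)
    (n p : ℕ) (hn : Nat.card G = n) (hp : p.Prime) (hdvd : p ∣ n) (hbig : n < p ^ 3)
    (hA : 2 * n ≠ p * (p ^ 2 - 1)) (hB : n ≠ (p - 2) * (p - 1) * p) : False := by
  subst hn
  rcases Cfsg.Agent.Lib.helper3.S983.s983e1_h11_kill hG p hp hdvd hbig with h | h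
  · exact hA h
  · exact hB h

theorem e2_false {G : Type*} [Group G] [Finite G] [IsSimpleGroup G] (hG : ¬ IsMulCommutative G)
    (n p q b g₀ : ℕ) (hn : Nat.card G = n) (hp : p.Prime) (hq : q.Prime) (hpq : p ≠ q) (hp5 : 5 ≤ p)
    (hcard : n = p * q ^ b * g₀) (hg : g₀ < p - 1)
    (hA : 2 * n ≠ p * (p ^ 2 - 1)) (hB : n ≠ (p - 2) * (p - 1) * p) : False := by
  subst hn
  rcases Cfsg.Agent.Lib.helper3.S983.s983e2_h11_kill hG p q b g₀ hp hq hpq hp5 hcard hg with h | h
  · exact hA h
  · exact hB h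

theorem main {G : Type*} [Group G] [Finite G] [IsSimpleGroup G] (hG : ¬ IsMulCommutative G)
    (h1 : 3640 < Nat.card G) (h2 : Nat.card G ≤ 6232) :
    Nat.card G = 4080 ∨ Nat.card G = 5616 ∨ Nat.card G = 6048 ∨ Nat.card G = 6072 := by
  have hall := mem_special hG h1 h2
  unfold specialOrders at hall
  simp only [List.mem_cons, List.not_mem_nil, or_false] at hall
  rcases hall with h | h | h | h | h | h | h | h | h | h | h | h | h | h | h | h | h | h | h | h |
    h | h | h | h | h | h | h | h | h | h | h | h | h | h | h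
  · exact (Cfsg.Agent.Lib.helper3.S983.no_simple_3696 h).elim
  · exact (Cfsg.Agent.Lib.helper3.S983.no_simple_3780 h).elim
  · exact (Cfsg.Agent.Lib.helper3.S983.no_simple_3960 h).elim
  · exact (Cfsg.Agent.S0976.result h).elim
  · exact Or.inl h
  · exact (e2_false hG 4160 13 2 6 5 h (by norm_num) (by norm_num) (by norm_num) (by norm_num)
      (by norm_num) (by norm_num) (by norm_num) (by norm_num)).elim
  · exact (Cfsg.Agent.Lib.helper3.S983.no_simple_4200 h).elim
  · exact (e2_false hG 4212 13 3 4 4 h (by norm_num) (by norm_num) (by norm_num) (by norm_num)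
      (by norm_num) (by norm_num) (by norm_num) (by norm_num)).elim
  · exact (Cfsg.Agent.S0977.result h).elim
  · exact (Cfsg.Agent.Lib.helper3.S983.no_simple_4400 h).elim
  · exact (Cfsg.Agent.Lib.helper3.S983.no_simple_4536 h).elim
  · exact (Cfsg.Agent.Lib.helper3.S983.no_simple_4620 h).elim
  · exact (Cfsg.Agent.Lib.Helper20.S983.no_simple_4680 h).elim
  · exact (Cfsg.Agent.Lib.helper3.S983.no_simple_4800 h).elim
  · exact (e1_false hG 4896 17 h (by norm_num) (by norm_num) (by norm_num) (by norm_num)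
      (by norm_num)).elim
  · exact (Cfsg.Agent.Lib.helper3.S983.no_simple_4900 h).elim
  · exact (e2_false hG 4928 11 2 6 7 h (by norm_num) (by norm_num) (by norm_num) (by norm_num)
      (by norm_num) (by norm_num) (by norm_num) (by norm_num)).elim
  · exact (e1_false hG 4960 31 h (by norm_num) (by norm_num) (by norm_num) (by norm_num)
      (by norm_num)).elim
  · exact (Cfsg.Agent.S0978.result h).elim
  · exact (Cfsg.Agent.Lib.helper3.S983.no_simple_5148 h).elim
  · exact (Cfsg.Agent.Lib.helper3.S983.no_simple_5200 h).elim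
  · exact (Cfsg.Agent.Lib.helper3.S983.no_simple_5292 h).elim
  · exact (e2_false hG 5376 7 2 8 3 h (by norm_num) (by norm_num) (by norm_num) (by norm_num)
      (by norm_num) (by norm_num) (by norm_num) (by norm_num)).elim
  · exact (Cfsg.Agent.Lib.helper3.S983.no_simple_5400 h).elim
  · exact (Cfsg.Agent.Lib.helper3.S983.no_simple_5460 h).elim
  · exact (Cfsg.Agent.S0979.result h).elim
  · exact (Cfsg.Agent.Lib.helper3.S983.no_simple_5600 h).elim
  · exact Or.inr (Or.inl h)
  · exact (Cfsg.Agent.S0980.result h).elim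
  · exact (e1_false hG 5852 19 h (by norm_num) (by norm_num) (by norm_num) (by norm_num)
      (by norm_num)).elim
  · exact (Cfsg.Agent.Lib.helper3.S983.no_simple_5880 h).elim
  · exact (Cfsg.Agent.Lib.helper3.S983.no_simple_5940 h).elim
  · exact Or.inr (Or.inr (Or.inl h))
  · exact Or.inr (Or.inr (Or.inr h))
  · exact (Cfsg.Agent.Lib.helper3.S983.no_simple_6160 h).elim

end Cfsg.Agent.Lib.helper3.S983
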